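/-
Helper30: towards S3104.  Part 4: an explicit elementary abelian subgroup of order 8 of `Sp_4(2)`
inside `GL_4(2)`, with the elements needed for the section of rank 5, and their images under the
Klein correspondence `GL_4(2) → S_8` (all stabilise the pair `{0, 1}`).
-/
import Cfsg.Agent.Helper96.KleinGroup

set_option autoImplicit false
set_option linter.unusedSectionVars false

namespace Cfsg.Agent.Helper30.Rk4

open Matrix Equiv Cfsg.Agent.Helper96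

/-- the unipotent radical of the stabiliser of the isotropic line `⟨e₀, e₁⟩` in `Sp_4(2)` -/
def umat (a b c : ZMod 2) : Matrix (Fin 4) (Fin 4) (ZMod 2) :=
  !![1, 0, a, b; 0, 1, b, c; 0, 0, 1, 0; 0, 0, 0, 1]

theorem umat_mul : ∀ a b c a' b' c' : ZMod 2,
    umat a b c * umat a' b' c' = umat (a + a') (b + b') (c + c') := by decide +kernel

theorem umat_sq : ∀ a b c : ZMod 2, umat a b c * umat a b c = 1 := by decide +kernel

theorem umat_zero : umat 0 0 0 = 1 := by decide +kernel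

theorem umat_injective : ∀ a b c a' b' c' : ZMod 2, umat a b c = umat a' b' c' →
    a = a' ∧ b = b' ∧ c = c' := by decide +kernel

/-- the elements of the radical as invertible matrices -/
def uGL (a b c : ZMod 2) : GL (Fin 4) (ZMod 2) :=
  ⟨umat a b c, umat a b c, umat_sq a b c, umat_sq a b c⟩

theorem uGL_val (a b c : ZMod 2) :
    ((uGL a b c : GL (Fin 4) (ZMod 2)) : Matrix (Fin 4) (Fin 4) (ZMod 2)) = umat a b c := rfl

theorem uGL_mul (a b c a' b' c' : ZMod 2) :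
    uGL a b c * uGL a' b' c' = uGL (a + a') (b + b') (c + c') :=
  Units.ext (umat_mul a b c a' b' c')

theorem uGL_zero : uGL 0 0 0 = 1 := Units.ext umat_zero

theorem uGL_inv (a b c : ZMod 2) : (uGL a b c)⁻¹ = uGL a b c := rfl

/-- the radical as a subgroup -/
def U0 : Subgroup (GL (Fin 4) (ZMod 2)) where
  carrier := {g | ∃ a b c : ZMod 2, g = uGL a b c}
  mul_mem' := by
    rintro _ _ ⟨a, b, c, rfl⟩ ⟨a', b', c', rfl⟩
    exact ⟨_, _, _, uGL_mul a b c a' b' c'⟩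
  one_mem' := ⟨0, 0, 0, uGL_zero.symm⟩
  inv_mem' := by
    rintro _ ⟨a, b, c, rfl⟩
    exact ⟨a, b, c, uGL_inv a b c⟩

theorem mem_U0 {g : GL (Fin 4) (ZMod 2)} : g ∈ U0 ↔ ∃ a b c : ZMod 2, g = uGL a b c := Iff.rfl

theorem card_U0 : Nat.card ↥U0 = 8 := by
  have hbij : Function.Bijective
      (fun x : ZMod 2 × ZMod 2 × ZMod 2 => (⟨uGL x.1 x.2.1 x.2.2, ⟨_, _, _, rfl⟩⟩ : ↥U0)) := by
    constructor
    · rintro ⟨a, b, c⟩ ⟨a', b', c'⟩ h
      have h1 : umat a b c = umat a' b' c' := congrArg (fun g : ↥U0 => ((g : GL (Fin 4) (ZMod 2)) :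
        Matrix (Fin 4) (Fin 4) (ZMod 2))) h
      obtain ⟨h2, h3, h4⟩ := umat_injective _ _ _ _ _ _ h1
      rw [h2, h3, h4]
    · rintro ⟨_, a, b, c, rfl⟩
      exact ⟨(a, b, c), rfl⟩
  rw [← Nat.card_congr (Equiv.ofBijective _ hbij), Nat.card_prod, Nat.card_prod,
    Nat.card_eq_fintype_card, ZMod.card]

/-- the isotropic line -/
def L0 : AddSubgroup (Fin 4 → ZMod 2) where
  carrier := {v | v 2 = 0 ∧ v 3 = 0}
  add_mem' := by
    rintro v w ⟨h1, h2⟩ ⟨h3, h4⟩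
    exact ⟨by simp [h1, h3], by simp [h2, h4]⟩
  zero_mem' := ⟨rfl, rfl⟩
  neg_mem' := by
    rintro v ⟨h1, h2⟩
    exact ⟨by simp [h1], by simp [h2]⟩

theorem mem_L0 {v : Fin 4 → ZMod 2} : v ∈ L0 ↔ v 2 = 0 ∧ v 3 = 0 := Iff.rfl

theorem card_L0 : Nat.card ↥L0 = 4 := by
  have hbij : Function.Bijective
      (fun x : ZMod 2 × ZMod 2 => (⟨![x.1, x.2, 0, 0], ⟨rfl, rfl⟩⟩ : ↥L0)) := by
    constructor
    · rintro ⟨a, b⟩ ⟨a', b'⟩ h
      have h1 : (![a, b, 0, 0] : Fin 4 → ZMod 2) = ![a', b', 0, 0] :=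
        congrArg (fun g : ↥L0 => (g : Fin 4 → ZMod 2)) h
      have h2 := congrFun h1 0
      have h3 := congrFun h1 1
      simp only [Matrix.cons_val_zero, Matrix.cons_val_one] at h2 h3
      rw [h2, h3]
    · rintro ⟨v, h1, h2⟩
      refine ⟨(v 0, v 1), ?_⟩
      apply Subtype.ext
      funext i
      fin_cases i
      · rfl
      · rfl
      · exact h1.symm
      · exact h2.symm
  rw [← Nat.card_congr (Equiv.ofBijective _ hbij), Nat.card_prod,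
    Nat.card_eq_fintype_card, ZMod.card]

theorem umat_sub_mem : ∀ a b c : ZMod 2, ∀ v : Fin 4 → ZMod 2,
    (umat a b c *ᵥ v - v) 2 = 0 ∧ (umat a b c *ᵥ v - v) 3 = 0 := by decide +kernel

theorem umat_fix : ∀ a b c : ZMod 2, ∀ v : Fin 4 → ZMod 2, v 2 = 0 ∧ v 3 = 0 →
    umat a b c *ᵥ v = v := by decide +kernel

/-- the elements of rank 2 -/
theorem umat_rank_two : ∀ a b c : ZMod 2, ¬ (a = 0 ∧ b = 0 ∧ c = 0) → ¬ (a = 1 ∧ b = 0 ∧ c = 0) →
    ¬ (a = 0 ∧ b = 0 ∧ c = 1) → ¬ (a = 1 ∧ b = 1 ∧ c = 1) → ∀ v : Fin 4 → ZMod 2,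
    umat a b c *ᵥ v = v → v 2 = 0 ∧ v 3 = 0 := by decide +kernel

/-- elements of order 3 of `Sp_4(2)` centralising the three transvections of the radical -/
def smat1 : Matrix (Fin 4) (Fin 4) (ZMod 2) := !![1, 0, 0, 0; 0, 0, 0, 1; 0, 0, 1, 0; 0, 1, 0, 1]
def smat1i : Matrix (Fin 4) (Fin 4) (ZMod 2) := !![1, 0, 0, 0; 0, 1, 0, 1; 0, 0, 1, 0; 0, 1, 0, 0]
def smat2 : Matrix (Fin 4) (Fin 4) (ZMod 2) := !![0, 0, 1, 0; 0, 1, 0, 0; 1, 0, 1, 0; 0, 0, 0, 1]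
def smat2i : Matrix (Fin 4) (Fin 4) (ZMod 2) := !![1, 0, 1, 0; 0, 1, 0, 0; 1, 0, 0, 0; 0, 0, 0, 1]
def smat3 : Matrix (Fin 4) (Fin 4) (ZMod 2) := !![1, 0, 0, 0; 1, 0, 0, 1; 1, 1, 1, 0; 1, 1, 0, 1]
def smat3i : Matrix (Fin 4) (Fin 4) (ZMod 2) := !![1, 0, 0, 0; 0, 1, 0, 1; 1, 1, 1, 1; 1, 1, 0, 0]

def sGL1 : GL (Fin 4) (ZMod 2) := ⟨smat1, smat1i, by decide +kernel, by decide +kernel⟩
def sGL2 : GL (Fin 4) (ZMod 2) := ⟨smat2, smat2i, by decide +kernel, by decide +kernel⟩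
def sGL3 : GL (Fin 4) (ZMod 2) := ⟨smat3, smat3i, by decide +kernel, by decide +kernel⟩

theorem smat1_comm : smat1 * umat 1 0 0 = umat 1 0 0 * smat1 := by decide +kernel
theorem smat2_comm : smat2 * umat 0 0 1 = umat 0 0 1 * smat2 := by decide +kernel
theorem smat3_comm : smat3 * umat 1 1 1 = umat 1 1 1 * smat3 := by decide +kernel

theorem smat1_cond : ∀ v : Fin 4 → ZMod 2, umat 1 0 0 *ᵥ v = v →
    (∃ w : Fin 4 → ZMod 2, smat1 *ᵥ v - v = umat 1 0 0 *ᵥ w - w) → v 2 = 0 ∧ v 3 = 0 := by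
  decide +kernel

theorem smat2_cond : ∀ v : Fin 4 → ZMod 2, umat 0 0 1 *ᵥ v = v →
    (∃ w : Fin 4 → ZMod 2, smat2 *ᵥ v - v = umat 0 0 1 *ᵥ w - w) → v 2 = 0 ∧ v 3 = 0 := by
  decide +kernel

theorem smat3_cond : ∀ v : Fin 4 → ZMod 2, umat 1 1 1 *ᵥ v = v →
    (∃ w : Fin 4 → ZMod 2, smat3 *ᵥ v - v = umat 1 1 1 *ᵥ w - w) → v 2 = 0 ∧ v 3 = 0 := by
  decide +kernel

/-! ### images under the Klein correspondence -/

theorem toPerm_eq_of (g : GL (Fin 4) (ZMod 2)) (σ : Perm (Fin 8))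
    (h : Klein.C2 (g : Matrix (Fin 4) (Fin 4) (ZMod 2)) = OSix.M σ) : Klein.toPerm g = σ := by
  have h1 : Klein.kleinHom g = OSix.Ψ σ := by
    apply Subtype.ext
    apply Units.ext
    exact h
  show OSix.mulEquivPerm (Klein.kleinHom g) = σ
  rw [h1]
  exact (MulEquiv.ofBijective OSix.Ψ ⟨OSix.Ψ_injective, OSix.Ψ_surjective⟩).symm_apply_apply σ

/-- the images of the elements of the radical -/
def σu (a b c : ZMod 2) : Perm (Fin 8) :=
  (if a = 1 then swap 0 1 * swap 2 3 * swap 4 6 * swap 5 7 else 1) *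
  (if b = 1 then swap 0 1 * swap 2 3 else 1) *
  (if c = 1 then swap 0 1 * swap 2 3 * swap 4 7 * swap 5 6 else 1)

theorem C2_umat : ∀ a b c : ZMod 2, Klein.C2 (umat a b c) = OSix.M (σu a b c) := by
  decide +kernel

theorem toPerm_uGL (a b c : ZMod 2) : Klein.toPerm (uGL a b c) = σu a b c :=
  toPerm_eq_of _ _ (C2_umat a b c)

theorem σu_pair : ∀ a b c : ZMod 2, (σu a b c 0 = 0 ∧ σu a b c 1 = 1) ∨
    (σu a b c 0 = 1 ∧ σu a b c 1 = 0) := by decide +kernel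

/-- the images of the three elements of order 3: (2 7 6)(3 5 4), (2 6 7)(3 5 4), (2 7 5)(3 6 4) -/
def τ1 : Perm (Fin 8) := swap 2 7 * swap 7 6 * (swap 3 5 * swap 5 4)
def τ2 : Perm (Fin 8) := swap 2 6 * swap 6 7 * (swap 3 5 * swap 5 4)
def τ3 : Perm (Fin 8) := swap 2 7 * swap 7 5 * (swap 3 6 * swap 6 4)

theorem C2_smat1 : Klein.C2 smat1 = OSix.M τ1 := by decide +kernel
theorem C2_smat2 : Klein.C2 smat2 = OSix.M τ2 := by decide +kernel
theorem C2_smat3 : Klein.C2 smat3 = OSix.M τ3 := by decide +kernel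

theorem toPerm_sGL1 : Klein.toPerm sGL1 = τ1 := toPerm_eq_of _ _ C2_smat1
theorem toPerm_sGL2 : Klein.toPerm sGL2 = τ2 := toPerm_eq_of _ _ C2_smat2
theorem toPerm_sGL3 : Klein.toPerm sGL3 = τ3 := toPerm_eq_of _ _ C2_smat3

theorem τ_fix : (τ1 0 = 0 ∧ τ1 1 = 1) ∧ (τ2 0 = 0 ∧ τ2 1 = 1) ∧ (τ3 0 = 0 ∧ τ3 1 = 1) := by
  decide +kernel

/-- all the explicit elements are mapped into the stabiliser of the pair `{0, 1}` -/
theorem data_pair (g : GL (Fin 4) (ZMod 2)) (hg : g ∈ U0 ∨ g = sGL1 ∨ g = sGL2 ∨ g = sGL3) :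
    (Klein.toPerm g 0 = 0 ∧ Klein.toPerm g 1 = 1) ∨
      (Klein.toPerm g 0 = 1 ∧ Klein.toPerm g 1 = 0) := by
  rcases hg with ⟨a, b, c, rfl⟩ | rfl | rfl | rfl
  · rw [toPerm_uGL]
    exact σu_pair a b c
  · rw [toPerm_sGL1]
    exact Or.inl τ_fix.1
  · rw [toPerm_sGL2]
    exact Or.inl τ_fix.2.1
  · rw [toPerm_sGL3]
    exact Or.inl τ_fix.2.2

theorem toPerm_mem_alternatingGroup (g : GL (Fin 4) (ZMod 2)) :
    Klein.toPerm g ∈ alternatingGroup (Fin 8) := by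
  rw [← Klein.range_toPerm]
  exact ⟨g, rfl⟩

end Cfsg.Agent.Helper30.Rk4
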