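import Mathlib

/-!
# Automorphisms of a coordinatised elementary abelian group as matrices (helper30)
-/

set_option autoImplicit false

namespace Cfsg.Agent.Helper30.Rk4

section AutToGL

variable {A : Type*} [Group A] {n p : ℕ} [Fact p.Prime]

/-- the additive map induced by an automorphism, in coordinates -/
def autAdd (ε : A ≃* Multiplicative (Fin n → ZMod p)) (α : MulAut A) :
    (Fin n → ZMod p) →+ (Fin n → ZMod p) where
  toFun v := Multiplicative.toAdd (ε (α (ε.symm (Multiplicative.ofAdd v))))
  map_zero' := by simp
  map_add' v w := by simp [ofAdd_add, map_mul, toAdd_mul]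

theorem autAdd_apply (ε : A ≃* Multiplicative (Fin n → ZMod p)) (α : MulAut A)
    (v : Fin n → ZMod p) :
    autAdd ε α v = Multiplicative.toAdd (ε (α (ε.symm (Multiplicative.ofAdd v)))) := rfl

/-- the matrix of an automorphism, in coordinates -/
noncomputable def autMat (ε : A ≃* Multiplicative (Fin n → ZMod p)) (α : MulAut A) :
    Matrix (Fin n) (Fin n) (ZMod p) :=
  LinearMap.toMatrix' ((autAdd ε α).toZModLinearMap p)

theorem autMat_mulVec (ε : A ≃* Multiplicative (Fin n → ZMod p)) (α : MulAut A)
    (v : Fin n → ZMod p) :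
    (autMat ε α).mulVec v = autAdd ε α v := by
  rw [autMat, ← Matrix.toLin'_apply, Matrix.toLin'_toMatrix']
  rfl

theorem mat_eq_of_mulVec {M N : Matrix (Fin n) (Fin n) (ZMod p)}
    (h : ∀ v, M.mulVec v = N.mulVec v) : M = N := by
  apply Matrix.toLin'.injective
  apply LinearMap.ext
  intro v
  rw [Matrix.toLin'_apply, Matrix.toLin'_apply]
  exact h v

/-- the matrices multiply like the automorphisms -/
noncomputable def autMatHom (ε : A ≃* Multiplicative (Fin n → ZMod p)) :
    MulAut A →* Matrix (Fin n) (Fin n) (ZMod p) where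
  toFun α := autMat ε α
  map_one' := by
    apply mat_eq_of_mulVec
    intro v
    rw [autMat_mulVec, Matrix.one_mulVec, autAdd_apply]
    simp
  map_mul' α β := by
    apply mat_eq_of_mulVec
    intro v
    rw [autMat_mulVec, ← Matrix.mulVec_mulVec, autMat_mulVec, autMat_mulVec, autAdd_apply,
      autAdd_apply, autAdd_apply]
    simp

/-- automorphisms as invertible matrices -/
noncomputable def autToGL (ε : A ≃* Multiplicative (Fin n → ZMod p)) :
    MulAut A →* GL (Fin n) (ZMod p) :=
  (autMatHom ε).toHomUnits

theorem autToGL_mulVec (ε : A ≃* Multiplicative (Fin n → ZMod p)) (α : MulAut A) (a : A) :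
    ((autToGL ε α : GL (Fin n) (ZMod p)) : Matrix (Fin n) (Fin n) (ZMod p)).mulVec
      (Multiplicative.toAdd (ε a)) = Multiplicative.toAdd (ε (α a)) := by
  have h1 : ((autToGL ε α : GL (Fin n) (ZMod p)) : Matrix (Fin n) (Fin n) (ZMod p))
      = autMat ε α := rfl
  rw [h1, autMat_mulVec, autAdd_apply]
  simp

theorem autToGL_injective (ε : A ≃* Multiplicative (Fin n → ZMod p)) :
    Function.Injective (autToGL ε) := by
  intro α β h
  ext a
  have h1 := autToGL_mulVec ε α a
  have h2 := autToGL_mulVec ε β a
  rw [h] at h1
  rw [h1] at h2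
  have h3 : ε (α a) = ε (β a) := by
    have := congrArg Multiplicative.ofAdd h2
    simpa using this
  exact ε.injective h3

end AutToGL

/-- coordinates on an elementary abelian group of order 16 -/
theorem exists_mulEquiv_elem {V : Type*} [Group V] [Finite V]
    (hcomm : ∀ a b : V, a * b = b * a) (hexp : ∀ a : V, a ^ 2 = 1)
    (hcard : Nat.card V = 2 ^ 4) :
    Nonempty (V ≃* Multiplicative (Fin 4 → ZMod 2)) := by
  classical
  have hp : Fact (Nat.Prime 2) := ⟨Nat.prime_two⟩
  let _ : CommGroup V := { (inferInstance : Group V) with mul_comm := hcomm }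
  have hV : ∀ x : Additive V, 2 • x = 0 := fun x => hexp (Additive.toMul x)
  let _ : Module (ZMod 2) (Additive V) := AddCommGroup.zmodModule hV
  have : Finite (Additive V) := inferInstanceAs (Finite V)
  have : Module.Finite (ZMod 2) (Additive V) := Module.Finite.of_finite
  have hfin : Module.finrank (ZMod 2) (Additive V) = 4 := by
    have h1 : Nat.card (Additive V) = Nat.card (ZMod 2) ^ Module.finrank (ZMod 2) (Additive V) :=
      Module.natCard_eq_pow_finrank (K := ZMod 2) (V := Additive V)
    have h2 : Nat.card (Additive V) = 2 ^ 4 := hcard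
    rw [h2, Nat.card_eq_fintype_card, ZMod.card] at h1
    exact (Nat.pow_right_injective (le_refl 2) h1).symm
  let b : Module.Basis (Fin 4) (ZMod 2) (Additive V) :=
    Module.finBasisOfFinrankEq (ZMod 2) (Additive V) hfin
  let e : Additive V ≃+ (Fin 4 → ZMod 2) := b.equivFun.toAddEquiv
  exact ⟨{ toFun := fun v => Multiplicative.ofAdd (e (Additive.ofMul v))
           invFun := fun w => Additive.toMul (e.symm (Multiplicative.toAdd w))
           left_inv := fun v => by simp
           right_inv := fun w => by simp
           map_mul' := fun v w => by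
             rw [ofMul_mul, map_add, ofAdd_add] }⟩

end Cfsg.Agent.Helper30.Rk4
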