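import Mathlib
import Cfsg.Prelude.Def_CaseTheorems
import Cfsg.Agent.Lib.Cores
import Cfsg.Agent.S0012
import Cfsg.Agent.S4207
import Cfsg.Agent.S3103
import Cfsg.Agent.Helper30.Rk4.GlueA

/-!
# The action of a 2-constrained group on the Frattini quotient of its radical (helper30)

The first part repeats steps of the argument of `Cfsg.Agent.S3103.result` (helper53), which
keeps them inside its proof.
-/

set_option autoImplicit false
open Cfsg
open scoped commutatorElement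

namespace Cfsg.Agent.Helper30.Rk4

/-- the action on the Frattini quotient of the radical, with its kernel -/
theorem exists_frattini_action {X : Type*} [Group X] [Finite X]
    (hc : Cfsg.IsPConstrained 2 X) (hO : Cfsg.oddCore X = ⊥)
    (h4 : Cfsg.SectionalPRankLE 2 4 ↥(Cfsg.pCore 2 X)) :
    ∃ (e : ℕ) (Ψ : X →* MulAut (↥(Cfsg.pCore 2 X) ⧸ frattini ↥(Cfsg.pCore 2 X))),
      e ≤ 4 ∧ Nat.card (↥(Cfsg.pCore 2 X) ⧸ frattini ↥(Cfsg.pCore 2 X)) = 2 ^ e ∧
      (∀ a b : ↥(Cfsg.pCore 2 X) ⧸ frattini ↥(Cfsg.pCore 2 X), a * b = b * a) ∧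
      (∀ a : ↥(Cfsg.pCore 2 X) ⧸ frattini ↥(Cfsg.pCore 2 X), a ^ 2 = 1) ∧
      Ψ.ker = Cfsg.pCore 2 X ∧
      (∀ (g : X) (x : ↥(Cfsg.pCore 2 X)),
        Ψ g (x : ↥(Cfsg.pCore 2 X) ⧸ frattini ↥(Cfsg.pCore 2 X))
          = ((MulAut.conjNormal g x : ↥(Cfsg.pCore 2 X)) : _ ⧸ frattini ↥(Cfsg.pCore 2 X))) := by
  classical
  have : Fact (Nat.Prime 2) := ⟨Nat.prime_two⟩
  have hQ2 : IsPGroup 2 ↥(Cfsg.pCore 2 X) := Cfsg.Agent.Lib.isPGroup_pCore 2
  have hN : Cfsg.pPrimeCore 2 X = ⊥ := hO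
  have hRQ : Cfsg.pPrimePCore 2 X = Cfsg.pCore 2 X := by
    apply le_antisymm
    · have hn : (Cfsg.pPrimePCore 2 X).Normal := by
        unfold Cfsg.pPrimePCore
        infer_instance
      apply Cfsg.Agent.Lib.le_pCore hn
      unfold Cfsg.pPrimePCore
      apply IsPGroup.comap_of_ker_isPGroup (Cfsg.Agent.Lib.isPGroup_pCore 2)
      rw [QuotientGroup.ker_mk', hN]
      exact IsPGroup.of_bot
    · unfold Cfsg.pPrimePCore
      rw [← Subgroup.map_le_iff_le_comap]
      have hn : ((Cfsg.pCore 2 X).map (QuotientGroup.mk' (Cfsg.pPrimeCore 2 X))).Normal :=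
        Subgroup.Normal.map inferInstance _ (QuotientGroup.mk'_surjective _)
      exact Cfsg.Agent.Lib.le_pCore hn (hQ2.map _)
  have hCQ : Subgroup.centralizer ((Cfsg.pCore 2 X : Subgroup X) : Set X) ≤ Cfsg.pCore 2 X := by
    have hR2 : IsPGroup 2 ↥(Cfsg.pPrimePCore 2 X) := by rw [hRQ]; exact hQ2
    obtain ⟨P⟩ : Nonempty (Sylow 2 ↥(Cfsg.pPrimePCore 2 X)) := inferInstance
    have hPtop : (P : Subgroup ↥(Cfsg.pPrimePCore 2 X)) = ⊤ := by
      have h1 : IsPGroup 2 ↥(⊤ : Subgroup ↥(Cfsg.pPrimePCore 2 X)) := hR2.to_subgroup ⊤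
      exact (P.is_maximal' h1 le_top).symm
    have := hc P
    rw [hPtop, ← MonoidHom.range_eq_map, Subgroup.range_subtype, hRQ] at this
    exact this
  obtain ⟨hcomm, hsq⟩ := Cfsg.Agent.S0012.result 2 hQ2
  have hVcomm : ∀ a b : ↥(Cfsg.pCore 2 X) ⧸ frattini ↥(Cfsg.pCore 2 X), a * b = b * a := by
    intro a b
    induction a using QuotientGroup.induction_on with
    | H a =>
      induction b using QuotientGroup.induction_on with
      | H b =>
        rw [← QuotientGroup.mk_mul, ← QuotientGroup.mk_mul, QuotientGroup.eq]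
        apply hcomm
        have : (a * b)⁻¹ * (b * a) = ⁅b⁻¹, a⁻¹⁆ := by
          rw [commutatorElement_def]; group
        rw [this]
        exact Subgroup.commutator_mem_commutator (Subgroup.mem_top _) (Subgroup.mem_top _)
  have hVexp : ∀ a : ↥(Cfsg.pCore 2 X) ⧸ frattini ↥(Cfsg.pCore 2 X), a ^ 2 = 1 := by
    intro a
    induction a using QuotientGroup.induction_on with
    | H a =>
      rw [← QuotientGroup.mk_pow, QuotientGroup.eq_one_iff]
      exact hsq a
  obtain ⟨e, he⟩ := IsPGroup.exists_card_eq (hQ2.to_quotient (frattini ↥(Cfsg.pCore 2 X)))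
  have he4 : e ≤ 4 := by
    have hN' : ((frattini ↥(Cfsg.pCore 2 X)).subgroupOf ⊤).Normal := inferInstance
    have hTcomm : ∀ a b : ↥(⊤ : Subgroup ↥(Cfsg.pCore 2 X)) ⧸
        (frattini ↥(Cfsg.pCore 2 X)).subgroupOf ⊤, a * b = b * a := by
      intro a b
      induction a using QuotientGroup.induction_on with
      | H a =>
        induction b using QuotientGroup.induction_on with
        | H b =>
          rw [← QuotientGroup.mk_mul, ← QuotientGroup.mk_mul, QuotientGroup.eq,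
            Subgroup.mem_subgroupOf]
          apply hcomm
          have : (((a * b)⁻¹ * (b * a) : ↥(⊤ : Subgroup ↥(Cfsg.pCore 2 X))) : ↥(Cfsg.pCore 2 X))
              = ⁅(b : ↥(Cfsg.pCore 2 X))⁻¹, (a : ↥(Cfsg.pCore 2 X))⁻¹⁆ := by
            rw [commutatorElement_def]
            push_cast
            group
          rw [this]
          exact Subgroup.commutator_mem_commutator (Subgroup.mem_top _) (Subgroup.mem_top _)
    have hTexp : ∀ a : ↥(⊤ : Subgroup ↥(Cfsg.pCore 2 X)) ⧸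
        (frattini ↥(Cfsg.pCore 2 X)).subgroupOf ⊤, a ^ 2 = 1 := by
      intro a
      induction a using QuotientGroup.induction_on with
      | H a =>
        rw [← QuotientGroup.mk_pow, QuotientGroup.eq_one_iff, Subgroup.mem_subgroupOf]
        exact hsq (a : ↥(Cfsg.pCore 2 X))
    have hr := h4 ⊤ ((frattini ↥(Cfsg.pCore 2 X)).subgroupOf ⊤) ⊤
      ⟨⟨fun a b => Subtype.ext (hTcomm a.1 b.1)⟩⟩ (fun a _ => hTexp a)
    rw [Subgroup.card_top, ← Subgroup.index_eq_card] at hr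
    have h5 : ((frattini ↥(Cfsg.pCore 2 X)).subgroupOf ⊤).index
        = (frattini ↥(Cfsg.pCore 2 X)).index := Subgroup.relIndex_top_right _
    rw [h5, Subgroup.index_eq_card, he] at hr
    by_contra hlt
    push Not at hlt
    have : 2 ^ 5 ≤ 2 ^ e := Nat.pow_le_pow_right (by norm_num) hlt
    omega
  set Ψ : X →* MulAut (↥(Cfsg.pCore 2 X) ⧸ frattini ↥(Cfsg.pCore 2 X)) :=
    Cfsg.Agent.S3103.frattiniQuotAut.comp (MulAut.conjNormal (H := Cfsg.pCore 2 X)) with hΨ
  have hΨmk : ∀ (g : X) (x : ↥(Cfsg.pCore 2 X)),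
      Ψ g (x : ↥(Cfsg.pCore 2 X) ⧸ frattini ↥(Cfsg.pCore 2 X))
        = ((MulAut.conjNormal g x : ↥(Cfsg.pCore 2 X)) : _ ⧸ frattini ↥(Cfsg.pCore 2 X)) :=
    fun g x => rfl
  have hQker : Cfsg.pCore 2 X ≤ Ψ.ker := by
    intro q hq
    rw [MonoidHom.mem_ker]
    ext x
    induction x using QuotientGroup.induction_on with
    | H x =>
      rw [hΨmk, MulAut.one_apply, QuotientGroup.eq]
      apply hcomm
      have : (MulAut.conjNormal q x : ↥(Cfsg.pCore 2 X))⁻¹ * x
          = ⁅(⟨q, hq⟩ : ↥(Cfsg.pCore 2 X)), x⁻¹⁆ := by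
        apply Subtype.ext
        rw [commutatorElement_def]
        push_cast
        rw [MulAut.conjNormal_apply]
        group
      rw [this]
      exact Subgroup.commutator_mem_commutator (Subgroup.mem_top _) (Subgroup.mem_top _)
  have hkerQ : Ψ.ker ≤ Cfsg.pCore 2 X := by
    apply Cfsg.Agent.Lib.le_pCore inferInstance
    set ρ : ↥Ψ.ker →* MulAut ↥(Cfsg.pCore 2 X) :=
      (MulAut.conjNormal (H := Cfsg.pCore 2 X)).comp Ψ.ker.subtype with hρ
    have hA : ∀ α ∈ ρ.range, ∀ x : ↥(Cfsg.pCore 2 X),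
        α x * x⁻¹ ∈ frattini ↥(Cfsg.pCore 2 X) := by
      rintro α ⟨k, rfl⟩ x
      have hk : Ψ (k : X) = 1 := MonoidHom.mem_ker.mp k.2
      have h1 := hΨmk (k : X) x
      rw [hk, MulAut.one_apply] at h1
      have h2 := (QuotientGroup.eq_iff_div_mem).mp h1.symm
      rw [div_eq_mul_inv] at h2
      exact h2
    obtain ⟨n, hn⟩ := IsPGroup.exists_card_eq hQ2
    obtain ⟨r, hr⟩ : ∃ r, (frattini ↥(Cfsg.pCore 2 X)).index = 2 ^ r :=
      ⟨e, by rw [Subgroup.index_eq_card]; exact he⟩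
    have hdvd := Cfsg.Agent.S4207.result hn hr ρ.range hA
    obtain ⟨j, -, hj⟩ := (Nat.dvd_prime_pow Nat.prime_two).mp hdvd
    have hrange : IsPGroup 2 ↥ρ.range := IsPGroup.of_card hj
    have hker : IsPGroup 2 ↥ρ.ker := by
      intro k
      have hk : ρ (k : ↥Ψ.ker) = 1 := MonoidHom.mem_ker.mp k.2
      have hcen : ((k : ↥Ψ.ker) : X) ∈
          Subgroup.centralizer ((Cfsg.pCore 2 X : Subgroup X) : Set X) := by
        rw [Subgroup.mem_centralizer_iff]
        intro y hy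
        have h1 : (MulAut.conjNormal ((k : ↥Ψ.ker) : X) (⟨y, hy⟩ : ↥(Cfsg.pCore 2 X)) :
            ↥(Cfsg.pCore 2 X)) = ⟨y, hy⟩ := by
          have : MulAut.conjNormal ((k : ↥Ψ.ker) : X) = (1 : MulAut ↥(Cfsg.pCore 2 X)) := hk
          rw [this, MulAut.one_apply]
        have h2 := congrArg Subtype.val h1
        rw [MulAut.conjNormal_apply] at h2
        have h3 : ((k : ↥Ψ.ker) : X) * y * ((k : ↥Ψ.ker) : X)⁻¹ = y := h2
        calc y * ((k : ↥Ψ.ker) : X)
            = (((k : ↥Ψ.ker) : X) * y * ((k : ↥Ψ.ker) : X)⁻¹) * ((k : ↥Ψ.ker) : X) := by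
              rw [h3]
          _ = ((k : ↥Ψ.ker) : X) * y := by group
      obtain ⟨m, hm⟩ := hQ2 ⟨((k : ↥Ψ.ker) : X), hCQ hcen⟩
      refine ⟨m, ?_⟩
      apply Subtype.ext
      apply Subtype.ext
      have := congrArg Subtype.val hm
      simpa using this
    have hcomap := IsPGroup.comap_of_ker_isPGroup hrange ρ hker
    have htop : ρ.range.comap ρ = ⊤ := by
      rw [eq_top_iff]
      intro k _
      exact ⟨k, rfl⟩
    rw [htop] at hcomap
    intro k
    obtain ⟨m, hm⟩ := hcomap ⟨k, Subgroup.mem_top k⟩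
    exact ⟨m, congrArg Subtype.val hm⟩
  exact ⟨e, Ψ, he4, he, hVcomm, hVexp, le_antisymm hkerQ hQker, hΨmk⟩

end Cfsg.Agent.Helper30.Rk4
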