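import Mathlib
import Cfsg.Prelude.Def_CaseTheorems
import Cfsg.Agent.Helper1.LineConfig
import Cfsg.Agent.Helper30.Rk4.Data
import Cfsg.Agent.Helper30.Rk4.GlueB

/-!
# From a conjugate of the explicit configuration to a section of rank 5 (helper30)
-/

set_option autoImplicit false
open Cfsg Matrix

namespace Cfsg.Agent.Helper30.Rk4

/-- multiplication by an invertible matrix on the multiplicative copy of the vectors -/
def mulVecMul (k : GL (Fin 4) (ZMod 2)) :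
    Multiplicative (Fin 4 → ZMod 2) →* Multiplicative (Fin 4 → ZMod 2) where
  toFun v := Multiplicative.ofAdd
    ((k : Matrix (Fin 4) (Fin 4) (ZMod 2)) *ᵥ Multiplicative.toAdd v)
  map_one' := by
    rw [toAdd_one, Matrix.mulVec_zero]
    rfl
  map_mul' v w := by
    rw [toAdd_mul, Matrix.mulVec_add, ofAdd_add]

theorem mulVecMul_apply (k : GL (Fin 4) (ZMod 2)) (v : Multiplicative (Fin 4 → ZMod 2)) :
    Multiplicative.toAdd (mulVecMul k v)
      = (k : Matrix (Fin 4) (Fin 4) (ZMod 2)) *ᵥ Multiplicative.toAdd v := rfl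

theorem gl_mulVec_mulVec (a b : GL (Fin 4) (ZMod 2)) (v : Fin 4 → ZMod 2) :
    (a : Matrix (Fin 4) (Fin 4) (ZMod 2)) *ᵥ ((b : Matrix (Fin 4) (Fin 4) (ZMod 2)) *ᵥ v)
      = ((a * b : GL (Fin 4) (ZMod 2)) : Matrix (Fin 4) (Fin 4) (ZMod 2)) *ᵥ v := by
  rw [Matrix.mulVec_mulVec]
  rfl

theorem gl_one_mulVec (v : Fin 4 → ZMod 2) :
    ((1 : GL (Fin 4) (ZMod 2)) : Matrix (Fin 4) (Fin 4) (ZMod 2)) *ᵥ v = v := by
  rw [Units.val_one, Matrix.one_mulVec]

theorem mulVecMul_surjective (k : GL (Fin 4) (ZMod 2)) : Function.Surjective (mulVecMul k) := by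
  intro v
  refine ⟨mulVecMul k⁻¹ v, ?_⟩
  apply Multiplicative.toAdd.injective
  rw [mulVecMul_apply, mulVecMul_apply, gl_mulVec_mulVec, mul_inv_cancel, gl_one_mulVec]

/-- the explicit configuration, up to conjugation, contradicts sectional rank 4 -/
theorem not_sectional_of_conj {X : Type*} [Group X] [Finite X] (R : Subgroup X) [hRn : R.Normal]
    (φ : ↥R →* Multiplicative (Fin 4 → ZMod 2)) (hφ : Function.Surjective φ)
    (ρ : X →* GL (Fin 4) (ZMod 2)) (hker : ρ.ker = R)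
    (hcompat : ∀ (x : X) (r : ↥R), φ ⟨x * (r : X) * x⁻¹, hRn.conj_mem (r : X) r.2 x⟩ =
        Multiplicative.ofAdd (((ρ x : GL (Fin 4) (ZMod 2)) : Matrix (Fin 4) (Fin 4) (ZMod 2)) *ᵥ
          Multiplicative.toAdd (φ r)))
    (k : GL (Fin 4) (ZMod 2))
    (hk : ∀ g : GL (Fin 4) (ZMod 2), (g ∈ U0 ∨ g = sGL1 ∨ g = sGL2 ∨ g = sGL3) →
      k * g * k⁻¹ ∈ ρ.range) :
    ¬ Cfsg.SectionalPRankLE 2 4 X := by
  classical
  set ρ' : X →* GL (Fin 4) (ZMod 2) := (MulAut.conj k⁻¹).toMonoidHom.comp ρ with hρ'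
  have hρ'x : ∀ x, ρ' x = k⁻¹ * ρ x * k := by
    intro x
    show MulAut.conj k⁻¹ (ρ x) = _
    rw [MulAut.conj_apply, inv_inv]
  set φ' : ↥R →* Multiplicative (Fin 4 → ZMod 2) := (mulVecMul k⁻¹).comp φ with hφ'
  have hφ's : Function.Surjective φ' := (mulVecMul_surjective k⁻¹).comp hφ
  have hker' : ρ'.ker = R := by
    rw [← hker]
    ext x
    rw [MonoidHom.mem_ker, MonoidHom.mem_ker, hρ'x]
    constructor
    · intro h
      have : ρ x = k * (k⁻¹ * ρ x * k) * k⁻¹ := by group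
      rw [this, h]
      group
    · intro h
      rw [h]
      group
  have hrange : ∀ g : GL (Fin 4) (ZMod 2), k * g * k⁻¹ ∈ ρ.range → g ∈ ρ'.range := by
    rintro g ⟨x, hx⟩
    refine ⟨x, ?_⟩
    rw [hρ'x, hx]
    group
  have hcompat' : ∀ (x : X) (r : ↥R), φ' ⟨x * (r : X) * x⁻¹, hRn.conj_mem (r : X) r.2 x⟩ =
        Multiplicative.ofAdd (((ρ' x : GL (Fin 4) (ZMod 2)) : Matrix (Fin 4) (Fin 4) (ZMod 2)) *ᵥ
          Multiplicative.toAdd (φ' r)) := by
    intro x r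
    apply Multiplicative.toAdd.injective
    show Multiplicative.toAdd (mulVecMul k⁻¹ (φ _)) = _
    rw [mulVecMul_apply, hcompat x r, toAdd_ofAdd, toAdd_ofAdd]
    show _ = _ *ᵥ Multiplicative.toAdd (mulVecMul k⁻¹ (φ r))
    rw [mulVecMul_apply, gl_mulVec_mulVec, gl_mulVec_mulVec, hρ'x,
      show k⁻¹ * ρ x * k * k⁻¹ = k⁻¹ * ρ x by group]
  have hU : U0 ≤ ρ'.range := fun g hg => hrange g (hk g (Or.inl hg))
  refine Cfsg.Agent.Helper1.LineConfig.not_sectional_of_line_config R φ' hφ's ρ' hker' hcompat'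
    U0 card_U0 hU L0 card_L0 ?_ ?_ ?_
  · rintro u ⟨a, b, c, rfl⟩ v
    rw [uGL_val, mem_L0]
    exact umat_sub_mem a b c v
  · rintro u ⟨a, b, c, rfl⟩ v hv
    rw [uGL_val]
    exact umat_fix a b c v (mem_L0.mp hv)
  · rintro u ⟨a, b, c, rfl⟩ hne
    have h0 : ¬ (a = 0 ∧ b = 0 ∧ c = 0) := by
      rintro ⟨rfl, rfl, rfl⟩
      exact hne uGL_zero
    by_cases h1 : a = 1 ∧ b = 0 ∧ c = 0
    · obtain ⟨rfl, rfl, rfl⟩ := h1
      right
      refine ⟨sGL1, hrange _ (hk _ (Or.inr (Or.inl rfl))), Units.ext smat1_comm, ?_⟩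
      intro v hv hw
      rw [mem_L0]
      exact smat1_cond v hv hw
    by_cases h2 : a = 0 ∧ b = 0 ∧ c = 1
    · obtain ⟨rfl, rfl, rfl⟩ := h2
      right
      refine ⟨sGL2, hrange _ (hk _ (Or.inr (Or.inr (Or.inl rfl)))), Units.ext smat2_comm, ?_⟩
      intro v hv hw
      rw [mem_L0]
      exact smat2_cond v hv hw
    by_cases h3 : a = 1 ∧ b = 1 ∧ c = 1
    · obtain ⟨rfl, rfl, rfl⟩ := h3
      right
      refine ⟨sGL3, hrange _ (hk _ (Or.inr (Or.inr (Or.inr rfl)))), Units.ext smat3_comm, ?_⟩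
      intro v hv hw
      rw [mem_L0]
      exact smat3_cond v hv hw
    left
    intro v hv
    rw [mem_L0]
    exact umat_rank_two a b c h0 h1 h2 h3 v hv

end Cfsg.Agent.Helper30.Rk4
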