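import Mathlib
import Cfsg.Prelude.Def_CaseTheorems
import Cfsg.Agent.Helper58.AutGL
import Cfsg.Agent.Helper96.KleinGroup
import Cfsg.Agent.Helper34.A8PairStab
import Cfsg.Agent.Helper30.Rk4.GlueC

/-!
# The groups `S_6`, `S_7`, `A_8` on the radical of sectional rank 4 (helper30)
-/

set_option autoImplicit false
open Cfsg Matrix Equiv
open Cfsg.Agent.Helper96

namespace Cfsg.Agent.Helper30.Rk4

theorem card_GL_small (e : ℕ) (he : e ≤ 3) : Nat.card (GL (Fin e) (ZMod 2)) ≤ 168 := by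
  rw [Matrix.card_GL_field, ZMod.card]
  interval_cases e <;> simp [Fin.prod_univ_succ]

theorem ker_comp_inj {G H K : Type*} [Group G] [Group H] [Group K] (f : G →* H) (g : H →* K)
    (hg : Function.Injective g) : (g.comp f).ker = f.ker := by
  ext x
  rw [MonoidHom.mem_ker, MonoidHom.mem_ker, MonoidHom.comp_apply]
  constructor
  · intro h
    exact hg (h.trans (map_one g).symm)
  · intro h
    rw [h, map_one]

/-- the coordinatised action -/
theorem exists_config {X : Type*} [Group X] [Finite X]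
    (hc : Cfsg.IsPConstrained 2 X) (hO : Cfsg.oddCore X = ⊥)
    (h4 : Cfsg.SectionalPRankLE 2 4 ↥(Cfsg.pCore 2 X))
    (hbig : 168 < Nat.card (X ⧸ Cfsg.pCore 2 X)) :
    ∃ (φ : ↥(Cfsg.pCore 2 X) →* Multiplicative (Fin 4 → ZMod 2))
      (ρ : X →* GL (Fin 4) (ZMod 2)),
      Function.Surjective φ ∧ ρ.ker = Cfsg.pCore 2 X ∧
      ∀ (x : X) (r : ↥(Cfsg.pCore 2 X)),
        φ ⟨x * (r : X) * x⁻¹,
          (inferInstance : (Cfsg.pCore 2 X).Normal).conj_mem (r : X) r.2 x⟩ =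
        Multiplicative.ofAdd (((ρ x : GL (Fin 4) (ZMod 2)) : Matrix (Fin 4) (Fin 4) (ZMod 2)) *ᵥ
          Multiplicative.toAdd (φ r)) := by
  classical
  obtain ⟨e, Ψ, he4, he, hVcomm, hVexp, hΨker, hΨmk⟩ := exists_frattini_action hc hO h4
  have he' : e = 4 := by
    by_contra hne
    have he3 : e ≤ 3 := by omega
    obtain ⟨Θ, hΘ⟩ := Cfsg.Agent.Helper58.exists_embedding_GL 2 e hVcomm hVexp he
    have hker : (Θ.comp Ψ).ker = Cfsg.pCore 2 X := (ker_comp_inj Ψ Θ hΘ).trans hΨker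
    have h1 : Nat.card (X ⧸ (Θ.comp Ψ).ker) ≤ Nat.card (GL (Fin e) (ZMod 2)) :=
      Nat.card_le_card_of_injective _ (QuotientGroup.kerLift_injective (Θ.comp Ψ))
    have h2 : Nat.card (X ⧸ (Θ.comp Ψ).ker) = Nat.card (X ⧸ Cfsg.pCore 2 X) :=
      Nat.card_congr (QuotientGroup.quotientMulEquivOfEq hker).toEquiv
    have h3 := card_GL_small e he3
    omega
  subst he'
  obtain ⟨ε⟩ := exists_mulEquiv_elem hVcomm hVexp he
  refine ⟨ε.toMonoidHom.comp (QuotientGroup.mk' (frattini ↥(Cfsg.pCore 2 X))),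
    (autToGL ε).comp Ψ, ε.surjective.comp (QuotientGroup.mk'_surjective _), ?_, ?_⟩
  · exact (ker_comp_inj Ψ (autToGL ε) (autToGL_injective ε)).trans hΨker
  · intro x r
    show ε ((⟨x * (r : X) * x⁻¹, _⟩ : ↥(Cfsg.pCore 2 X)) :
        ↥(Cfsg.pCore 2 X) ⧸ frattini ↥(Cfsg.pCore 2 X)) =
      Multiplicative.ofAdd (((autToGL ε (Ψ x) : GL (Fin 4) (ZMod 2)) :
        Matrix (Fin 4) (Fin 4) (ZMod 2)) *ᵥ Multiplicative.toAdd (ε ((r : ↥(Cfsg.pCore 2 X)) :
        ↥(Cfsg.pCore 2 X) ⧸ frattini ↥(Cfsg.pCore 2 X))))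
    rw [autToGL_mulVec, hΨmk, ofAdd_toAdd]
    congr 2

/-- a subgroup of order 720 of `GL_4(2)` contains a conjugate of the explicit configuration -/
theorem exists_conj_of_card_720 (S : Subgroup (GL (Fin 4) (ZMod 2))) (hS : Nat.card ↥S = 720) :
    ∃ k : GL (Fin 4) (ZMod 2), ∀ g : GL (Fin 4) (ZMod 2),
      (g ∈ U0 ∨ g = sGL1 ∨ g = sGL2 ∨ g = sGL3) → k * g * k⁻¹ ∈ S := by
  classical
  have hle : S.map Klein.toPerm ≤ alternatingGroup (Fin 8) := by
    rw [← Klein.range_toPerm]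
    rintro _ ⟨g, -, rfl⟩
    exact ⟨g, rfl⟩
  have hcard : Nat.card ↥(S.map Klein.toPerm) = 720 := by
    rw [← hS]
    exact Nat.card_congr (S.equivMapOfInjective _ Klein.toPerm_injective).symm.toEquiv
  obtain ⟨σ, hσ, hσg⟩ := Cfsg.Agent.Helper34.A8PairStab.conj_pair_stabilizer_le
    (S.map Klein.toPerm) hle hcard 0 1 (by decide)
  rw [← Klein.range_toPerm] at hσ
  obtain ⟨k, rfl⟩ := hσ
  refine ⟨k, fun g hg => ?_⟩
  have h1 := hσg (Klein.toPerm g) (toPerm_mem_alternatingGroup g) (data_pair g hg)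
  rw [← map_inv, ← map_mul, ← map_mul] at h1
  obtain ⟨s, hs, hs2⟩ := h1
  rw [← Klein.toPerm_injective hs2]
  exact hs

end Cfsg.Agent.Helper30.Rk4
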