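import Mathlib
import Cfsg.Prelude.Def_CaseTheorems
import Cfsg.Agent.Helper30.A8Sub.Cyc
import Cfsg.Agent.Helper30.Rk4.GlueD

/-!
# Second half of S3104 (helper30)
-/

set_option autoImplicit false
open Cfsg Matrix Equiv
open Cfsg.Agent.Helper96

namespace Cfsg.Agent.Helper30.Rk4

theorem card_perm_fin_six : Nat.card (Perm (Fin 6)) = 720 := by
  rw [Nat.card_eq_fintype_card, Fintype.card_perm, Fintype.card_fin]
  rfl

theorem card_perm_fin_seven : Nat.card (Perm (Fin 7)) = 5040 := by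
  rw [Nat.card_eq_fintype_card, Fintype.card_perm, Fintype.card_fin]
  rfl

/-- the second half of S3104 -/
theorem part_two {X : Type*} [Group X] [Finite X]
    (hc : Cfsg.IsPConstrained 2 X) (hO : Cfsg.oddCore X = ⊥)
    (h4 : Cfsg.SectionalPRankLE 2 4 ↥(Cfsg.pCore 2 X))
    (h4X : Cfsg.SectionalPRankLE 2 4 X) :
    ¬ (Nonempty (X ⧸ Cfsg.pCore 2 X ≃* Equiv.Perm (Fin 6)) ∨
        Nonempty (X ⧸ Cfsg.pCore 2 X ≃* Equiv.Perm (Fin 7)) ∨
        Nonempty (X ⧸ Cfsg.pCore 2 X ≃* ↥(alternatingGroup (Fin 8)))) := by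
  classical
  intro h
  have hbig : 168 < Nat.card (X ⧸ Cfsg.pCore 2 X) := by
    rcases h with h6 | h7 | h8
    · obtain ⟨e⟩ := h6
      rw [Nat.card_congr e.toEquiv, card_perm_fin_six]
      norm_num
    · obtain ⟨e⟩ := h7
      rw [Nat.card_congr e.toEquiv, card_perm_fin_seven]
      norm_num
    · obtain ⟨e⟩ := h8
      rw [Nat.card_congr e.toEquiv, Cfsg.Agent.Helper30.A8Sub.card_alternatingGroup_fin_eight]
      norm_num
  obtain ⟨φ, ρ, hφ, hker, hcompat⟩ := exists_config hc hO h4 hbig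
  let eR : X ⧸ Cfsg.pCore 2 X ≃* ↥ρ.range :=
    (QuotientGroup.quotientMulEquivOfEq hker.symm).trans (QuotientGroup.quotientKerEquivRange ρ)
  have hk : ∃ k : GL (Fin 4) (ZMod 2), ∀ g : GL (Fin 4) (ZMod 2),
      (g ∈ U0 ∨ g = sGL1 ∨ g = sGL2 ∨ g = sGL3) → k * g * k⁻¹ ∈ ρ.range := by
    rcases h with h6 | h7 | h8
    · obtain ⟨e⟩ := h6
      have hcard : Nat.card ↥ρ.range = 720 := by
        rw [← Nat.card_congr eR.toEquiv, Nat.card_congr e.toEquiv, card_perm_fin_six]
      exact exists_conj_of_card_720 ρ.range hcard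
    · obtain ⟨e⟩ := h7
      let ι : Perm (Fin 6) →* Perm (Fin 7) := Equiv.Perm.viaEmbeddingHom Fin.castSuccEmb
      have hι : Function.Injective ι := Equiv.Perm.viaEmbeddingHom_injective _
      let j : Perm (Fin 6) →* GL (Fin 4) (ZMod 2) :=
        ρ.range.subtype.comp (eR.toMonoidHom.comp (e.symm.toMonoidHom.comp ι))
      have hj : Function.Injective j :=
        (Subgroup.subtype_injective _).comp (eR.injective.comp (e.symm.injective.comp hι))
      have hcard : Nat.card ↥j.range = 720 := by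
        rw [← Nat.card_congr (MonoidHom.ofInjective hj).toEquiv, card_perm_fin_six]
      have hle : j.range ≤ ρ.range := by
        rintro _ ⟨s, rfl⟩
        exact (eR (e.symm (ι s))).2
      obtain ⟨k, hk⟩ := exists_conj_of_card_720 j.range hcard
      exact ⟨k, fun g hg => hle (hk g hg)⟩
    · obtain ⟨e⟩ := h8
      have hcard : Nat.card ↥ρ.range = 20160 := by
        rw [← Nat.card_congr eR.toEquiv, Nat.card_congr e.toEquiv,
          Cfsg.Agent.Helper30.A8Sub.card_alternatingGroup_fin_eight]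
      have htop : ρ.range = ⊤ := by
        apply Subgroup.eq_top_of_card_eq
        rw [hcard, Klein.card_GL]
      exact ⟨1, fun g _ => by rw [htop]; exact Subgroup.mem_top _⟩
  obtain ⟨k, hk⟩ := hk
  exact not_sectional_of_conj (Cfsg.pCore 2 X) φ hφ ρ hker hcompat k hk h4X

end Cfsg.Agent.Helper30.Rk4
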