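/-
Helper30: subgroups of `A_8` without non-trivial normal 2-subgroups (towards S3104).
Part 1: the condition; a group without non-trivial normal 2-subgroups acting faithfully on an
abelian group and leaving invariant a subgroup of index two; subgroups of `GL_4(2)` of order 1344.
-/
import Cfsg.Agent.Helper30.A8Sub.Card1344

set_option autoImplicit false
set_option linter.unusedSectionVars false

namespace Cfsg.Agent.Helper30.Rk4

open Equiv Equiv.Perm Matrix Cfsg.Agent.Helper30.A8Sub

/-- no nontrivial normal 2-subgroup -/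
def NoO2 (H : Type*) [Group H] : Prop :=
  ∀ N : Subgroup H, N.Normal → IsPGroup 2 N → N = ⊥

theorem noO2_of_pCore {H : Type*} [Group H] (h : Cfsg.pCore 2 H = ⊥) : NoO2 H := by
  intro N hN hp
  have := Cfsg.Agent.Lib.le_pCore hN hp
  rwa [h, le_bot_iff] at this

theorem NoO2.of_equiv {H K : Type*} [Group H] [Group K] (e : H ≃* K) (h : NoO2 H) : NoO2 K := by
  intro N hN hp
  have h1 : (N.map e.symm.toMonoidHom).Normal := hN.map _ e.symm.surjective
  have h2 : IsPGroup 2 ↥(N.map e.symm.toMonoidHom) := hp.map _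
  have h3 := h _ h1 h2
  rwa [Subgroup.map_eq_bot_iff_of_injective _ e.symm.injective] at h3

theorem isPGroup_two_of_sq {G : Type*} [Group G] (h : ∀ g : G, g * g = 1) : IsPGroup 2 G := by
  intro g
  exact ⟨1, by rw [pow_one, pow_two]; exact h g⟩

theorem card_dvd_of_invariant_index_two' {H X : Type*} [Group H] [Finite H] [AddCommGroup X]
    [Finite X] (act : H →* Perm X)
    (hadd : ∀ h x y, act h (x + y) = act h x + act h y) (hinj : Function.Injective act)
    (W : AddSubgroup X) (hW2 : W.index = 2) (hinv : ∀ h, ∀ w ∈ W, act h w ∈ W)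
    (hO2 : NoO2 H) : ∃ n, n < Nat.card ↥W ∧ Nat.card H ∣ n.factorial := by
  classical
  have hzero : ∀ h, act h 0 = 0 := by
    intro h
    have := hadd h 0 0
    rw [add_zero] at this
    exact (add_eq_left.1 this.symm)
  have hWiff : ∀ h x, act h x ∈ W ↔ x ∈ W := by
    intro h x
    constructor
    · intro hx
      have := hinv h⁻¹ _ hx
      have h2 : (act h)⁻¹ (act h x) = x := (act h).symm_apply_apply x
      rwa [map_inv, h2] at this
    · exact hinv h x
  have hne : ∀ h x, act h x ≠ 0 ↔ x ≠ 0 := by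
    intro h x
    rw [not_iff_not]
    constructor
    · intro hx
      rw [← hzero h] at hx
      exact (act h).injective hx
    · rintro rfl
      exact hzero h
  let r : H →* Perm {w : X // w ∈ W ∧ w ≠ 0} :=
    { toFun := fun h => subtypePerm (act h) (fun x => by rw [hWiff, hne])
      map_one' := by
        ext x
        show (act 1) x.1 = x.1
        rw [map_one]
        rfl
      map_mul' := by
        intro a b
        ext x
        show (act (a * b)) x.1 = act a (act b x.1)
        rw [map_mul]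
        rfl }
  have hker : ∀ g ∈ r.ker, ∀ w ∈ W, act g w = w := by
    intro g hg w hw
    by_cases hw0 : w = 0
    · rw [hw0, hzero]
    · have h1 : r g = 1 := MonoidHom.mem_ker.1 hg
      have := congrArg (fun f : Perm {w : X // w ∈ W ∧ w ≠ 0} => ((f ⟨w, hw, hw0⟩ : _) : X)) h1
      simpa [r] using this
  have hsq : ∀ g ∈ r.ker, g * g = 1 := by
    intro g hg
    apply hinj
    rw [map_mul, map_one]
    ext u
    rw [Perm.mul_apply, Perm.one_apply]
    by_cases hu : u ∈ W
    · rw [hker g hg u hu, hker g hg u hu]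
    · have hgu : act g u ∉ W := by rwa [hWiff]
      have hsum : act g u + u ∈ W := by
        rw [AddSubgroup.add_mem_iff_of_index_two hW2]
        exact ⟨fun h => absurd h hgu, fun h => absurd h hu⟩
      have h2 := hker g hg _ hsum
      rw [hadd] at h2
      have h4 : act g (act g u) + act g u = u + act g u := by rw [h2, add_comm]
      exact add_right_cancel h4
  have hkerbot : r.ker = ⊥ := hO2 _ inferInstance
    (isPGroup_two_of_sq (fun g => Subtype.ext (hsq g.1 g.2)))
  have hrinj : Function.Injective r := (MonoidHom.ker_eq_bot_iff r).1 hkerbot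
  refine ⟨Nat.card {w : X // w ∈ W ∧ w ≠ 0}, ?_, ?_⟩
  · have : Fintype {w : X // w ∈ W ∧ w ≠ 0} := Fintype.ofFinite _
    have : Fintype ↥W := Fintype.ofFinite _
    rw [Nat.card_eq_fintype_card, Nat.card_eq_fintype_card]
    apply Fintype.card_lt_of_injective_of_notMem
      (fun w : {w : X // w ∈ W ∧ w ≠ 0} => (⟨w.1, w.2.1⟩ : ↥W)) (b := (0 : ↥W))
    · intro a b hab
      apply Subtype.ext
      exact congrArg (fun z : ↥W => (z : X)) hab
    · rintro ⟨w, hw⟩
      apply w.2.2
      exact congrArg (fun z : ↥W => (z : X)) hw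
  · rw [← Nat.card_perm]
    exact Subgroup.card_dvd_of_injective r hrinj

/-- a subgroup of `GL_4(2)` of order 1344 stabilising a hyperplane has a non-trivial normal
2-subgroup -/
theorem not_noO2_of_invariant (H : Subgroup (GL (Fin 4) (ZMod 2)))
    (hcard : Nat.card ↥H = 1344) (W : AddSubgroup (Fin 4 → ZMod 2)) (hW2 : W.index = 2)
    (hinv : ∀ h ∈ H, ∀ w ∈ W, h.1 *ᵥ w ∈ W) : ¬ NoO2 ↥H := by
  intro hrad
  have hW8 : Nat.card ↥W = 8 := by
    have := AddSubgroup.card_mul_index W
    rw [hW2, card_vec] at this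
    omega
  obtain ⟨k, hk, hdvd⟩ := card_dvd_of_invariant_index_two'
    ((colAct (n := Fin 4) (R := ZMod 2)).comp H.subtype)
    (fun h x y => by simp [mulVec_add])
    (colAct_injective.comp H.subtype_injective) W hW2
    (fun h w hw => hinv h.1 h.2 w hw) hrad
  rw [hW8] at hk
  rw [hcard] at hdvd
  exact not_dvd_factorial hk hdvd

/-- a subgroup of `GL_4(2)` of order 1344 fixing a non-zero vector has a non-trivial normal
2-subgroup -/
theorem not_noO2_of_fixed (H : Subgroup (GL (Fin 4) (ZMod 2)))
    (hcard : Nat.card ↥H = 1344) (v : Fin 4 → ZMod 2) (hv : v ≠ 0)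
    (hfix : ∀ h ∈ H, h.1 *ᵥ v = v) : ¬ NoO2 ↥H := by
  intro hrad
  let f : (Fin 4 → ZMod 2) →+ ZMod 2 :=
    { toFun := fun φ => φ ⬝ᵥ v
      map_zero' := zero_dotProduct v
      map_add' := fun a b => add_dotProduct a b v }
  have hrange : f.range = ⊤ := by
    rw [AddMonoidHom.range_eq_top]
    obtain ⟨j, hj⟩ : ∃ j, v j ≠ 0 := by
      by_contra hcon
      apply hv
      funext j
      by_contra hj
      exact hcon ⟨j, hj⟩
    intro a
    refine ⟨Pi.single j (a * (v j)⁻¹), ?_⟩
    show Pi.single j (a * (v j)⁻¹) ⬝ᵥ v = a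
    rw [single_dotProduct]
    have : Fact (Nat.Prime 2) := ⟨Nat.prime_two⟩
    field_simp
  have hW2 : f.ker.index = 2 := by
    rw [AddSubgroup.index_ker, hrange]
    rw [Nat.card_congr AddSubgroup.topEquiv.toEquiv, Nat.card_eq_fintype_card, ZMod.card]
  have hW8 : Nat.card ↥f.ker = 8 := by
    have := AddSubgroup.card_mul_index f.ker
    rw [hW2, card_vec] at this
    omega
  have hfix' : ∀ h ∈ H, (h⁻¹).1 *ᵥ v = v := by
    intro h hh
    have := hfix h⁻¹ (H.inv_mem hh)
    exact this
  obtain ⟨k, hk, hdvd⟩ := card_dvd_of_invariant_index_two'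
    ((rowAct (n := Fin 4) (R := ZMod 2)).comp H.subtype)
    (fun h x y => by simp [add_vecMul])
    (rowAct_injective.comp H.subtype_injective) f.ker hW2
    (fun h w hw => by
      rw [AddMonoidHom.mem_ker] at hw ⊢
      show (w ᵥ* (h.1⁻¹).1) ⬝ᵥ v = 0
      rw [← dotProduct_mulVec, hfix' h.1 h.2]
      exact hw) hrad
  rw [hW8] at hk
  rw [hcard] at hdvd
  exact not_dvd_factorial hk hdvd

/-- a subgroup of `GL_4(2)` of order 1344 has a non-trivial normal 2-subgroup -/
theorem not_noO2_of_card_1344 (H : Subgroup (GL (Fin 4) (ZMod 2)))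
    (hcard : Nat.card ↥H = 1344) : ¬ NoO2 ↥H := by
  classical
  have hPcard : Nat.card ↥(H.map (colAct (n := Fin 4) (R := ZMod 2))) = 1344 := by
    rw [Subgroup.card_map_of_injective colAct_injective, hcard]
  have hX2 : ∀ x : Fin 4 → ZMod 2, x + x = 0 := by
    intro x
    funext i
    exact CharTwo.add_self_eq_zero (x i)
  have hX : Fintype.card (Fin 4 → ZMod 2) = 16 := by
    rw [← Nat.card_eq_fintype_card, card_vec]
  have hadd : ∀ h ∈ H.map (colAct (n := Fin 4) (R := ZMod 2)), ∀ x y : Fin 4 → ZMod 2,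
      h (x + y) = h x + h y := by
    intro h hh x y
    obtain ⟨g, -, rfl⟩ := Subgroup.mem_map.1 hh
    simp [mulVec_add]
  rcases fixed_or_invariant_aux hX2 hX _ hadd (by rw [hPcard]; norm_num)
    (by rw [hPcard]; norm_num) with ⟨v, hv, hfix⟩ | ⟨W, hW2, hinv⟩
  · exact not_noO2_of_fixed H hcard v hv
      (fun h hh => hfix (colAct h) (Subgroup.mem_map_of_mem _ hh))
  · exact not_noO2_of_invariant H hcard W hW2
      (fun h hh w hw => hinv (colAct h) (Subgroup.mem_map_of_mem _ hh) w hw)

/-- the preimage in `GL_4(2)` of a group of even permutations of degree 8 -/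
noncomputable def toLin (H : Subgroup (Perm (Fin 8))) (hH : H ≤ alternatingGroup (Fin 8)) :
    ↥(H.comap Cfsg.Agent.Helper96.Klein.toPerm) ≃* ↥H :=
  MulEquiv.ofBijective
    ((Cfsg.Agent.Helper96.Klein.toPerm).subgroupComap H)
    ⟨fun x y hxy => by
      apply Subtype.ext
      apply Cfsg.Agent.Helper96.Klein.toPerm_injective
      exact congrArg Subtype.val hxy,
     fun y => by
      have hy : y.1 ∈ (Cfsg.Agent.Helper96.Klein.toPerm).range := by
        rw [Cfsg.Agent.Helper96.Klein.range_toPerm]
        exact hH y.2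
      obtain ⟨g, hg⟩ := hy
      refine ⟨⟨g, ?_⟩, ?_⟩
      · rw [Subgroup.mem_comap, hg]
        exact y.2
      · apply Subtype.ext
        exact hg⟩

/-- a group of even permutations of degree 8 and order 1344 has a non-trivial normal 2-subgroup -/
theorem not_noO2_of_card_1344_perm (H : Subgroup (Perm (Fin 8)))
    (hH : H ≤ alternatingGroup (Fin 8)) (hcard : Nat.card ↥H = 1344) : ¬ NoO2 ↥H := by
  intro h
  apply not_noO2_of_card_1344 (H.comap Cfsg.Agent.Helper96.Klein.toPerm)
  · rw [Nat.card_congr (toLin H hH).toEquiv, hcard]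
  · exact h.of_equiv (toLin H hH).symm

end Cfsg.Agent.Helper30.Rk4
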