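/-
Helper30: subgroups of `A_8` without non-trivial normal 2-subgroups (towards S3104).
Part 2: the non-solvable groups of even permutations of degree 8 without non-trivial normal
2-subgroups.
-/
import Cfsg.Agent.Helper30.Rk4.O2A

set_option autoImplicit false
set_option linter.unusedSectionVars false

namespace Cfsg.Agent.Helper30.Rk4

open Equiv Equiv.Perm Cfsg.Agent.Helper30.A8Sub

/-- an extension of a solvable group by a solvable group is solvable -/
theorem isSolvable_of_normal_of_quotient {G : Type*} [Group G] (N : Subgroup G) [N.Normal]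
    (h1 : Group.IsSolvable ↥N) (h2 : Group.IsSolvable (G ⧸ N)) : Group.IsSolvable G := by
  apply Group.isSolvable_of_ker_le_range N.subtype (QuotientGroup.mk' N)
  rw [QuotientGroup.ker_mk', Subgroup.range_subtype]

/-- a group of order 120 without non-trivial normal 2-subgroups, not solvable, with a normal
subgroup of order 60, is the symmetric group of degree 5 -/
theorem equiv_perm_five' {G : Type} [Group G] [Finite G] (hcard : Nat.card G = 120)
    (hns : ¬ Group.IsSolvable G) (hO2 : NoO2 G) (A : Subgroup G) [A.Normal]
    (hA : Nat.card ↥A = 60) : Nonempty (G ≃* Perm (Fin 5)) := by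
  have hAns : ¬ Group.IsSolvable ↥A := by
    intro hs
    apply hns
    apply isSolvable_of_normal_of_quotient A hs
    apply isSolvable_of_card_lt_sixty
    have := Subgroup.card_eq_card_quotient_mul_card_subgroup A
    rw [hcard, hA] at this
    omega
  have hAsimple : IsSimpleGroup ↥A := isSimpleGroup_of_card_sixty hA hAns
  obtain ⟨eA⟩ := Cfsg.Agent.S0494.result (G := ↥A) hA
  have hCA : Disjoint (Subgroup.centralizer (A : Set G)) A := by
    rw [Subgroup.disjoint_def]
    intro x hxC hxA
    have hcen : (⟨x, hxA⟩ : ↥A) ∈ Subgroup.center ↥A := by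
      rw [Subgroup.mem_center_iff]
      intro a
      apply Subtype.ext
      simp only [Subgroup.coe_mul]
      exact (Subgroup.mem_centralizer_iff.1 hxC a.1 a.2)
    rcases (inferInstance : (Subgroup.center ↥A).Normal).eq_bot_or_eq_top with h | h
    · rw [h, Subgroup.mem_bot] at hcen
      exact congrArg Subtype.val hcen
    · exfalso
      apply hAns
      apply Group.isSolvable_of_comm
      intro a b
      have ha : a ∈ Subgroup.center ↥A := by rw [h]; exact Subgroup.mem_top a
      exact (Subgroup.mem_center_iff.1 ha b).symm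
  have hC2 : Nat.card ↥(Subgroup.centralizer (A : Set G)) ≤ 2 := by
    have := Nat.card_le_card_of_injective _ (Subgroup.mul_injective_of_disjoint hCA)
    rw [Nat.card_prod, hA, hcard] at this
    omega
  have hCbot : Subgroup.centralizer (A : Set G) = ⊥ := by
    apply hO2 _ inferInstance
    have hpos := Nat.card_pos (α := ↥(Subgroup.centralizer (A : Set G)))
    have h12 : Nat.card ↥(Subgroup.centralizer (A : Set G)) = 1 ∨
        Nat.card ↥(Subgroup.centralizer (A : Set G)) = 2 := by omega
    rcases h12 with h | h
    · exact IsPGroup.of_card (n := 0) (by rw [h, pow_zero])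
    · exact IsPGroup.of_card (n := 1) (by rw [h, pow_one])
  have hinj : Function.Injective (MulAut.conjNormal (H := A) : G →* MulAut ↥A) := by
    rw [injective_iff_map_eq_one]
    intro g hg
    have hgC : g ∈ Subgroup.centralizer (A : Set G) := by
      rw [Subgroup.mem_centralizer_iff]
      intro a ha
      have := congrArg (fun φ : MulAut ↥A => ((φ ⟨a, ha⟩ : ↥A) : G)) hg
      simp only [MulAut.conjNormal_apply, MulAut.one_apply] at this
      calc a * g = (g * a * g⁻¹) * g := by rw [this]
        _ = g * a := by group
    rw [hCbot, Subgroup.mem_bot] at hgC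
    exact hgC
  let χ : Perm (Fin 5) ≃* MulAut ↥(alternatingGroup (Fin 5)) :=
    MulEquiv.ofBijective MulAut.conjNormal
      (Cfsg.Agent.S2119.result 5 (by norm_num) (by norm_num))
  let f : G →* Perm (Fin 5) :=
    χ.symm.toMonoidHom.comp ((MulAut.congr eA).toMonoidHom.comp MulAut.conjNormal)
  have hf : Function.Injective f := by
    intro x y hxy
    apply hinj
    apply (MulAut.congr eA).injective
    exact χ.symm.injective hxy
  have hbij : Function.Bijective f := by
    apply hf.bijective_of_nat_card_le
    rw [hcard, Nat.card_perm, Nat.card_eq_fintype_card, Fintype.card_fin]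
    decide
  exact ⟨MulEquiv.ofBijective f hbij⟩

/-- non-solvable groups of degree 6 without normal 2-subgroups and order divisible by 30 -/
theorem deg6' {α : Type} [Fintype α] [DecidableEq α] (hα : Fintype.card α = 6)
    (K : Subgroup (Perm α)) (hns : ¬ Group.IsSolvable ↥K)
    (hO2 : NoO2 ↥K) (h30 : 30 ∣ Nat.card ↥K) :
    Nonempty (↥K ≃* alternatingGroup (Fin 5)) ∨ Nonempty (↥K ≃* Perm (Fin 5)) ∨
      Nonempty (↥K ≃* alternatingGroup (Fin 6)) ∨ Nonempty (↥K ≃* Perm (Fin 6)) := by
  have h1 := card_mul_index_perm hα K
  have h720 : Nat.factorial 6 = 720 := by decide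
  rw [h720] at h1
  have hcα : Nat.card α = 6 := by rw [Nat.card_eq_fintype_card, hα]
  have : Nontrivial α := by
    rw [← Fintype.one_lt_card_iff_nontrivial]
    omega
  by_cases hidx : K.index ≤ 2
  · rcases equiv_of_index_le_two hα (by norm_num) K hidx with h | h
    · exact Or.inr (Or.inr (Or.inl h))
    · exact Or.inr (Or.inr (Or.inr h))
  · have hidx6 : 6 ≤ K.index := by
      by_contra hlt
      apply hidx
      have hle : alternatingGroup α ≤ K := by
        apply alternatingGroup_le_of_index_factorial_lt (by omega)
        rw [hcα, h720]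
        have h5 : K.index ≤ 5 := by omega
        calc K.index.factorial ≤ Nat.factorial 5 := Nat.factorial_le h5
          _ < 720 := by decide
      have := Subgroup.index_dvd_of_le hle
      rw [alternatingGroup.index_eq_two] at this
      exact Nat.le_of_dvd (by norm_num) this
    have hK120 : Nat.card ↥K ≤ 120 := by nlinarith
    obtain ⟨c, hc⟩ := h30
    have hc4 : c ≤ 4 := by omega
    have hc0 : c ≠ 0 := by
      intro h
      rw [h] at hc
      have := Nat.card_pos (α := ↥K)
      omega
    have hcases : c = 1 ∨ c = 2 ∨ c = 3 ∨ c = 4 := by omega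
    rcases hcases with rfl | rfl | rfl | rfl
    · exact absurd (isSolvable_of_card_lt_sixty (by omega)) hns
    · -- order 60
      have hc60 : Nat.card ↥K = 60 := by omega
      have := isSimpleGroup_of_card_sixty hc60 hns
      exact Or.inl (Cfsg.Agent.S0494.result (G := ↥K) hc60)
    · exact absurd (isSolvable_of_card_le_hundred _ ↥K rfl (by omega) (by omega)) hns
    · -- order 120
      have hc120 : Nat.card ↥K = 120 := by omega
      right; left
      have hnle : ¬ K ≤ alternatingGroup α := by
        intro hle
        have hsimple := alternatingGroup.isSimpleGroup (α := α) (by omega)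
        have hcA : Nat.card ↥(alternatingGroup α) = 360 := by
          have := two_mul_nat_card_alternatingGroup (α := α)
          rw [Nat.card_perm, hcα, h720] at this
          omega
        have hcK' : Nat.card ↥(K.subgroupOf (alternatingGroup α)) = 120 := by
          rw [← hc120]
          exact Nat.card_congr (Subgroup.subgroupOfEquivOfLe hle).toEquiv
        have hmul := Subgroup.card_mul_index (K.subgroupOf (alternatingGroup α))
        rw [hcK', hcA] at hmul
        have hi3 : (K.subgroupOf (alternatingGroup α)).index = 3 := by omega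
        have hne : K.subgroupOf (alternatingGroup α) ≠ ⊤ := by
          intro h
          rw [← Subgroup.index_eq_one, hi3] at h
          omega
        have := card_le_factorial_index_of_simple _ hne
        rw [hi3, hcA] at this
        have h6 : Nat.factorial 3 = 6 := by decide
        omega
      have hAcard : Nat.card ↥((alternatingGroup α).subgroupOf K) = 60 := by
        have hmul := Subgroup.card_mul_index ((alternatingGroup α).subgroupOf K)
        rw [hc120] at hmul
        have hdvd : (alternatingGroup α).relIndex K ∣ 2 := by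
          have := Subgroup.relIndex_dvd_index_of_normal (alternatingGroup α) K
          rwa [alternatingGroup.index_eq_two] at this
        have hne1 : (alternatingGroup α).relIndex K ≠ 1 := by
          rw [Ne, Subgroup.relIndex_eq_one]
          exact hnle
        have h2 : (alternatingGroup α).relIndex K = 2 := by
          have := Nat.le_of_dvd (by norm_num) hdvd
          have hpos : (alternatingGroup α).relIndex K ≠ 0 := fun h => by
            rw [h] at hdvd
            omega
          omega
        rw [Subgroup.relIndex] at h2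
        rw [h2] at hmul
        omega
      exact equiv_perm_five' hc120 hns hO2 ((alternatingGroup α).subgroupOf K) hAcard


/-- a normal 3-subgroup of a non-solvable group of order at most 120 is trivial -/
theorem normal_three_subgroup_eq_bot {G : Type*} [Group G] [Finite G] (hcard : Nat.card G ≤ 120)
    (hns : ¬ Group.IsSolvable G) (N : Subgroup G) [N.Normal] (hN : IsPGroup 3 ↥N) : N = ⊥ := by
  by_contra hne
  apply hns
  have : Fact (Nat.Prime 3) := ⟨by norm_num⟩
  have hNs : Group.IsSolvable ↥N := by
    have : Group.IsNilpotent ↥N := hN.isNilpotent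
    infer_instance
  apply isSolvable_of_normal_of_quotient N hNs
  apply isSolvable_of_card_lt_sixty
  have h1 := Subgroup.card_eq_card_quotient_mul_card_subgroup N
  have h3 : 3 ≤ Nat.card ↥N := by
    obtain ⟨k, hk⟩ := IsPGroup.exists_card_eq hN
    rcases Nat.eq_zero_or_pos k with rfl | hk0
    · exfalso
      apply hne
      rw [pow_zero] at hk
      exact Subgroup.card_eq_one.1 hk
    · rw [hk]
      calc 3 = 3 ^ 1 := by norm_num
        _ ≤ 3 ^ k := Nat.pow_le_pow_right (by norm_num) hk0
  by_contra hge
  push Not at hge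
  have : 60 * 3 ≤ Nat.card (G ⧸ N) * Nat.card ↥N := Nat.mul_le_mul hge h3
  omega

/-- groups of even permutations of degree 8 without non-trivial normal 2-subgroups, not solvable,
of order divisible by 5 and not by 7 -/
theorem case_five' (H : Subgroup (Perm (Fin 8))) (hH : H ≤ alternatingGroup (Fin 8))
    (hns : ¬ Group.IsSolvable ↥H)
    (hO2 : NoO2 ↥H) (h5 : 5 ∣ Nat.card ↥H) (h7 : ¬ 7 ∣ Nat.card ↥H) :
    Nonempty (↥H ≃* alternatingGroup (Fin 5)) ∨ Nonempty (↥H ≃* Perm (Fin 5)) ∨
      Nonempty (↥H ≃* alternatingGroup (Fin 6)) ∨ Nonempty (↥H ≃* Perm (Fin 6)) ∨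
      (Nat.card ↥(Cfsg.pCore 3 ↥H) = 3 ∧
        (Nonempty (↥H ⧸ Cfsg.pCore 3 ↥H ≃* alternatingGroup (Fin 5)) ∨
          Nonempty (↥H ⧸ Cfsg.pCore 3 ↥H ≃* Perm (Fin 5)))) := by
  classical
  have : Fact (Nat.Prime 5) := ⟨by norm_num⟩
  obtain ⟨d', hd'⟩ := exists_prime_orderOf_dvd_card' 5 h5
  have hd : d'.1 ∈ H := d'.2
  have hd5 : orderOf d'.1 = 5 := by rw [Subgroup.orderOf_coe, hd']
  generalize d'.1 = d at hd hd5
  have hcyc : d.IsCycle :=
    isCycle_of_prime_order' (by rw [hd5]; norm_num) (by rw [hd5]; simp)
  have hsupp : d.support.card = 5 := by rw [← hcyc.orderOf, hd5]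
  obtain ⟨s, hs⟩ : d.support.Nonempty := by
    rw [← Finset.card_pos, hsupp]
    norm_num
  have hsub : d.support ⊆ orb H s := by
    intro x hx
    obtain ⟨i, hi⟩ := hcyc.exists_zpow_eq (mem_support.1 hs) (mem_support.1 hx)
    exact mem_orb.2 ⟨d ^ i, H.zpow_mem hd i, hi⟩
  have hge : 5 ≤ (orb H s).card := by
    rw [← hsupp]
    exact Finset.card_le_card hsub
  have hle : (orb H s).card ≤ 8 := by
    have := Finset.card_le_univ (orb H s)
    rwa [Fintype.card_fin] at this
  have hcard := card_orb_mul_card_stab H s
  have hcompl : (orb H s)ᶜ.card = 8 - (orb H s).card := by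
    rw [Finset.card_compl, Fintype.card_fin]
  have hΔ := inv_orb H s
  have hne7 : (orb H s).card ≠ 7 := by
    intro h
    apply h7
    rw [← hcard, h]
    exact dvd_mul_right _ _
  by_cases h8 : (orb H s).card = 8
  · exfalso
    have huniv : orb H s = Finset.univ := by
      rw [← Finset.card_eq_iff_eq_univ, h8, Fintype.card_fin]
    have : MulAction.IsPretransitive ↥H (Fin 8) := by
      refine ⟨fun x y => ?_⟩
      obtain ⟨h, hh, hxy⟩ := orb_transitive H s x (by rw [huniv]; exact Finset.mem_univ x) y
        (by rw [huniv]; exact Finset.mem_univ y)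
      exact ⟨⟨h, hh⟩, hxy⟩
    exact h7 (seven_dvd_of_transitive H d hd hd5)
  · -- the kernel of the restriction acts faithfully on the complement
    set r := restr H (orb H s) hΔ with hr
    let ψ : ↥r.ker →* Perm {x // x ∈ (orb H s)ᶜ} :=
      (restr H (orb H s)ᶜ hΔ.compl).comp r.ker.subtype
    have hψinj : Function.Injective ψ := by
      rw [injective_iff_map_eq_one]
      intro k hk
      have h1 : ∀ x ∈ orb H s, k.1.1 x = x := mem_ker_restr.1 k.2
      have hk' : restr H (orb H s)ᶜ hΔ.compl k.1 = 1 := hk
      have h2 : ∀ x ∈ (orb H s)ᶜ, k.1.1 x = x :=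
        (mem_ker_restr (hΔ := hΔ.compl)).1 (MonoidHom.mem_ker.2 hk')
      apply Subtype.ext
      apply Subtype.ext
      refine Equiv.ext (fun x => ?_)
      by_cases hx : x ∈ orb H s
      · simpa using h1 x hx
      · simpa using h2 x (Finset.mem_compl.2 hx)
    have hKdvd : Nat.card ↥r.ker ∣ ((orb H s)ᶜ.card).factorial := by
      have := Subgroup.card_dvd_of_injective ψ hψinj
      rwa [Nat.card_perm, Nat.card_eq_fintype_card (α := {x // x ∈ (orb H s)ᶜ}),
        Fintype.card_coe] at this
    have hKsol : Group.IsSolvable ↥r.ker := isSolvable_ker_restr hΔ (by omega)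
    let e : ↥H ⧸ r.ker ≃* ↥r.range := QuotientGroup.quotientKerEquivRange r
    have hnsK : ¬ Group.IsSolvable ↥r.range := by
      intro hsol
      apply hns
      apply isSolvable_of_normal_of_quotient r.ker hKsol
      exact Group.isSolvable_of_isSolvable_injective e.injective
    have hsignK : ∀ k : ↥r.ker, sign (ψ k) = 1 := by
      intro k
      have h1 : ∀ x ∈ orb H s, k.1.1 x = x := mem_ker_restr.1 k.2
      have := sign_restr hΔ.compl k.1 (fun x hx => by
        rw [Finset.mem_compl, not_not] at hx
        exact h1 x hx)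
      show sign (restr H (orb H s)ᶜ hΔ.compl k.1) = 1
      rw [this]
      exact (mem_alternatingGroup.1 (hH k.1.2))
    have h56 : (orb H s).card = 5 ∨ (orb H s).card = 6 := by omega
    rcases h56 with h | h
    · have hα : Fintype.card {x // x ∈ orb H s} = 5 := by rw [Fintype.card_coe, h]
      have hdeg := deg5 hα _ hnsK
      have h3c : (orb H s)ᶜ.card = 3 := by omega
      rw [h3c] at hKdvd
      have h6 : Nat.factorial 3 = 6 := by decide
      rw [h6] at hKdvd
      have hKpos := Nat.card_pos (α := ↥r.ker)
      have hKle : Nat.card ↥r.ker ≤ 6 := Nat.le_of_dvd (by norm_num) hKdvd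
      have hcases : Nat.card ↥r.ker = 1 ∨ Nat.card ↥r.ker = 2 ∨ Nat.card ↥r.ker = 3 ∨
          Nat.card ↥r.ker = 6 := by
        interval_cases hk : Nat.card ↥r.ker <;> omega
      rcases hcases with hk | hk | hk | hk
      · -- injective
        have hbot : r.ker = ⊥ := Subgroup.card_eq_one.1 hk
        have hinj : Function.Injective r := (MonoidHom.ker_eq_bot_iff r).1 hbot
        let e0 : ↥H ≃* ↥r.range := MonoidHom.ofInjective hinj
        rcases hdeg with h1 | h1
        · obtain ⟨e2⟩ := h1
          exact Or.inl ⟨e0.trans e2⟩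
        · obtain ⟨e2⟩ := h1
          exact Or.inr (Or.inl ⟨e0.trans e2⟩)
      · exfalso
        have hbot : r.ker = ⊥ := hO2 _ inferInstance
          (IsPGroup.of_card (n := 1) (by rw [hk, pow_one]))
        rw [hbot, Subgroup.card_bot] at hk
        omega
      · -- the new case
        right; right; right; right
        have hp3 : IsPGroup 3 ↥r.ker := IsPGroup.of_card (n := 1) (by rw [hk, pow_one])
        have hle1 : r.ker ≤ Cfsg.pCore 3 ↥H := Cfsg.Agent.Lib.le_pCore inferInstance hp3
        have hRcard : Nat.card ↥r.range ≤ 120 := by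
          have := card_mul_index_perm hα r.range
          have h120 : Nat.factorial 5 = 120 := by decide
          rw [h120] at this
          have hpos : 0 < r.range.index := Nat.pos_of_ne_zero (fun h0 => by
            rw [h0, mul_zero] at this
            omega)
          nlinarith
        have hle2 : Cfsg.pCore 3 ↥H ≤ r.ker := by
          have hn : ((Cfsg.pCore 3 ↥H).map r.rangeRestrict).Normal :=
            Subgroup.Normal.map inferInstance _ r.rangeRestrict_surjective
          have hp : IsPGroup 3 ↥((Cfsg.pCore 3 ↥H).map r.rangeRestrict) :=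
            (Cfsg.Agent.Lib.isPGroup_pCore 3).map _
          have hbot := normal_three_subgroup_eq_bot hRcard hnsK _ hp
          intro x hx
          rw [MonoidHom.mem_ker]
          have hx' : r.rangeRestrict x ∈ (Cfsg.pCore 3 ↥H).map r.rangeRestrict :=
            Subgroup.mem_map_of_mem _ hx
          rw [hbot, Subgroup.mem_bot] at hx'
          exact congrArg Subtype.val hx'
        have heq : Cfsg.pCore 3 ↥H = r.ker := le_antisymm hle2 hle1
        refine ⟨by rw [heq, hk], ?_⟩
        let e1 : ↥H ⧸ Cfsg.pCore 3 ↥H ≃* ↥H ⧸ r.ker := QuotientGroup.quotientMulEquivOfEq heq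
        rcases hdeg with h1 | h1
        · obtain ⟨e2⟩ := h1
          exact Or.inl ⟨(e1.trans e).trans e2⟩
        · obtain ⟨e2⟩ := h1
          exact Or.inr ⟨(e1.trans e).trans e2⟩
      · -- the kernel is the full symmetric group of the complement: an odd permutation
        exfalso
        have hbij : Function.Bijective ψ := by
          apply hψinj.bijective_of_nat_card_le
          rw [hk, Nat.card_perm, Nat.card_eq_fintype_card, Fintype.card_coe, h3c]
          decide
        have h1lt : 1 < Fintype.card {x // x ∈ (orb H s)ᶜ} := by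
          rw [Fintype.card_coe, h3c]
          norm_num
        obtain ⟨x, y, hxy⟩ := Fintype.exists_pair_of_one_lt_card h1lt
        obtain ⟨k, hk2⟩ := hbij.2 (swap x y)
        have := hsignK k
        rw [hk2, sign_swap hxy] at this
        exact absurd this (by decide)
    · have hα : Fintype.card {x // x ∈ orb H s} = 6 := by rw [Fintype.card_coe, h]
      have h2c : (orb H s)ᶜ.card = 2 := by omega
      rw [h2c] at hKdvd
      have h2f : Nat.factorial 2 = 2 := by decide
      rw [h2f] at hKdvd
      have hbot : r.ker = ⊥ := by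
        apply hO2 _ inferInstance
        have hKpos := Nat.card_pos (α := ↥r.ker)
        have hKle : Nat.card ↥r.ker ≤ 2 := Nat.le_of_dvd (by norm_num) hKdvd
        have h12 : Nat.card ↥r.ker = 1 ∨ Nat.card ↥r.ker = 2 := by omega
        rcases h12 with h | h
        · exact IsPGroup.of_card (n := 0) (by rw [h, pow_zero])
        · exact IsPGroup.of_card (n := 1) (by rw [h, pow_one])
      have hinj : Function.Injective r := (MonoidHom.ker_eq_bot_iff r).1 hbot
      let e0 : ↥H ≃* ↥r.range := MonoidHom.ofInjective hinj
      have h30 : 30 ∣ Nat.card ↥r.range := by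
        rw [← Nat.card_congr e0.toEquiv]
        have h6 : 6 ∣ Nat.card ↥H := by
          rw [← hcard, h]
          exact dvd_mul_right _ _
        exact Nat.Coprime.mul_dvd_of_dvd_of_dvd (by norm_num : Nat.Coprime 6 5) h6 h5
      rcases deg6' hα _ hnsK (hO2.of_equiv e0) h30 with h1 | h1 | h1 | h1
      · obtain ⟨e2⟩ := h1
        exact Or.inl ⟨e0.trans e2⟩
      · obtain ⟨e2⟩ := h1
        exact Or.inr (Or.inl ⟨e0.trans e2⟩)
      · obtain ⟨e2⟩ := h1
        exact Or.inr (Or.inr (Or.inl ⟨e0.trans e2⟩))
      · obtain ⟨e2⟩ := h1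
        exact Or.inr (Or.inr (Or.inr (Or.inl ⟨e0.trans e2⟩)))

/-- the non-solvable groups of even permutations of degree 8 without non-trivial normal
2-subgroups -/
theorem main_perm_o2 (H : Subgroup (Perm (Fin 8))) (hH : H ≤ alternatingGroup (Fin 8))
    (hns : ¬ Group.IsSolvable ↥H) (hO2 : NoO2 ↥H) :
    (∃ n, 5 ≤ n ∧ n ≤ 8 ∧ Nonempty (↥H ≃* alternatingGroup (Fin n))) ∨
      Nonempty (↥H ≃* Perm (Fin 5)) ∨ Nonempty (↥H ≃* Perm (Fin 6)) ∨
      Nonempty (↥H ≃* GL (Fin 3) (ZMod 2)) ∨
      (Nat.card ↥(Cfsg.pCore 3 ↥H) = 3 ∧
        (Nonempty (↥H ⧸ Cfsg.pCore 3 ↥H ≃* alternatingGroup (Fin 5)) ∨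
          Nonempty (↥H ⧸ Cfsg.pCore 3 ↥H ≃* Perm (Fin 5)))) := by
  have hdvd : Nat.card ↥H ∣ 20160 := by
    rw [← card_alternatingGroup_fin_eight]
    exact Subgroup.card_dvd_of_le hH
  by_cases h7 : 7 ∣ Nat.card ↥H
  · rcases case_seven H hH hns h7 with h | h | h | h
    · exact Or.inl ⟨7, by norm_num, by norm_num, h⟩
    · exact Or.inl ⟨8, by norm_num, by norm_num, h⟩
    · exact Or.inr (Or.inr (Or.inr (Or.inl h)))
    · exact absurd hO2 (not_noO2_of_card_1344_perm H hH h)
  · have h5 : 5 ∣ Nat.card ↥H := by
      rcases seven_or_five_dvd hdvd hns with h | h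
      · exact absurd h h7
      · exact h
    rcases case_five' H hH hns hO2 h5 h7 with h | h | h | h | h
    · exact Or.inl ⟨5, by norm_num, by norm_num, h⟩
    · exact Or.inr (Or.inl h)
    · exact Or.inl ⟨6, by norm_num, by norm_num, h⟩
    · exact Or.inr (Or.inr (Or.inl h))
    · exact Or.inr (Or.inr (Or.inr (Or.inr h)))

end Cfsg.Agent.Helper30.Rk4
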