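/-
Helper30: towards S3104.  Part 3: the quotient of a non-solvable group by its largest normal
2-subgroup, when it embeds in `A_8`.
-/
import Cfsg.Agent.Helper30.Rk4.O2B
import Cfsg.Agent.Helper62.PSolvDual

set_option autoImplicit false
set_option linter.unusedSectionVars false

namespace Cfsg.Agent.Helper30.Rk4

open Equiv Equiv.Perm Cfsg.Agent.Helper30.A8Sub

theorem map_pCore_le {A B : Type*} [Group A] [Group B] (p : ℕ) (e : A ≃* B) :
    (Cfsg.pCore p A).map e.toMonoidHom ≤ Cfsg.pCore p B := by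
  apply Cfsg.Agent.Lib.le_pCore
  · exact Subgroup.Normal.map inferInstance _ e.surjective
  · exact (Cfsg.Agent.Lib.isPGroup_pCore p).map _

theorem map_pCore_equiv {G G' : Type*} [Group G] [Group G'] (p : ℕ) (e : G ≃* G') :
    (Cfsg.pCore p G).map e.toMonoidHom = Cfsg.pCore p G' := by
  apply le_antisymm (map_pCore_le p e)
  intro y hy
  have := map_pCore_le p e.symm (Subgroup.mem_map_of_mem _ hy)
  refine ⟨e.symm y, this, ?_⟩
  exact e.apply_symm_apply y

/-- transport of the `O_3`-conclusion along an isomorphism -/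
theorem transport_three {Q H : Type*} [Group Q] [Group H] (e : Q ≃* H) {T : Type*} [Group T]
    (h : Nonempty (H ⧸ Cfsg.pCore 3 H ≃* T)) : Nonempty (Q ⧸ Cfsg.pCore 3 Q ≃* T) := by
  obtain ⟨e2⟩ := h
  have hmap : (Cfsg.pCore 3 Q).map e.toMonoidHom = Cfsg.pCore 3 H := map_pCore_equiv 3 e
  exact ⟨(QuotientGroup.congr (Cfsg.pCore 3 Q) (Cfsg.pCore 3 H) e hmap).trans e2⟩

theorem card_pCore_equiv {Q H : Type*} [Group Q] [Group H] (p : ℕ) (e : Q ≃* H) :
    Nat.card ↥(Cfsg.pCore p Q) = Nat.card ↥(Cfsg.pCore p H) := by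
  rw [← map_pCore_equiv p e, Subgroup.card_map_of_injective e.injective]

/-- the first half of S3104, from an embedding in `A_8` -/
theorem part_one {X : Type*} [Group X] [Finite X] (hns : ¬ Group.IsSolvable X)
    (f : X ⧸ Cfsg.pCore 2 X →* ↥(alternatingGroup (Fin 8))) (hf : Function.Injective f) :
    (∃ (F : Type) (_ : Field F) (_ : Fintype F), Fintype.card F = 2 ∧
          Nonempty (X ⧸ Cfsg.pCore 2 X ≃* Matrix.ProjectiveSpecialLinearGroup (Fin 3) F)) ∨
        (∃ n : ℕ, 5 ≤ n ∧ n ≤ 8 ∧ Nonempty (X ⧸ Cfsg.pCore 2 X ≃* ↥(alternatingGroup (Fin n)))) ∨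
        (∃ n : ℕ, 5 ≤ n ∧ n ≤ 7 ∧ Nonempty (X ⧸ Cfsg.pCore 2 X ≃* Equiv.Perm (Fin n))) ∨
        (Nat.card ↥(Cfsg.pCore 3 (X ⧸ Cfsg.pCore 2 X)) = 3 ∧
          (Nonempty ((X ⧸ Cfsg.pCore 2 X) ⧸ Cfsg.pCore 3 (X ⧸ Cfsg.pCore 2 X) ≃*
              ↥(alternatingGroup (Fin 5))) ∨
            Nonempty ((X ⧸ Cfsg.pCore 2 X) ⧸ Cfsg.pCore 3 (X ⧸ Cfsg.pCore 2 X) ≃*
              Equiv.Perm (Fin 5)))) := by
  classical
  have : Fact (Nat.Prime 2) := ⟨Nat.prime_two⟩
  set Q := X ⧸ Cfsg.pCore 2 X with hQ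
  let g : Q →* Perm (Fin 8) := (alternatingGroup (Fin 8)).subtype.comp f
  have hg : Function.Injective g := (Subgroup.subtype_injective _).comp hf
  let e : Q ≃* ↥g.range := MonoidHom.ofInjective hg
  have hle : g.range ≤ alternatingGroup (Fin 8) := by
    rintro _ ⟨q, rfl⟩
    exact (f q).2
  have hnsQ : ¬ Group.IsSolvable Q := by
    intro hs
    apply hns
    apply isSolvable_of_normal_of_quotient (Cfsg.pCore 2 X) _ hs
    have : Group.IsNilpotent ↥(Cfsg.pCore 2 X) := (Cfsg.Agent.Lib.isPGroup_pCore 2).isNilpotent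
    infer_instance
  have hnsH : ¬ Group.IsSolvable ↥g.range := by
    intro hs
    exact hnsQ (Group.isSolvable_of_isSolvable_injective e.injective)
  have hO2Q : NoO2 Q := noO2_of_pCore (Cfsg.Agent.Helper62.pCore_quotient_pCore_eq_bot 2)
  have hO2H : NoO2 ↥g.range := hO2Q.of_equiv e
  rcases main_perm_o2 g.range hle hnsH hO2H with h | h | h | h | h
  · obtain ⟨n, h1, h2, ⟨e2⟩⟩ := h
    exact Or.inr (Or.inl ⟨n, h1, h2, ⟨e.trans e2⟩⟩)
  · obtain ⟨e2⟩ := h
    exact Or.inr (Or.inr (Or.inl ⟨5, by norm_num, by norm_num, ⟨e.trans e2⟩⟩))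
  · obtain ⟨e2⟩ := h
    exact Or.inr (Or.inr (Or.inl ⟨6, by norm_num, by norm_num, ⟨e.trans e2⟩⟩))
  · obtain ⟨e2⟩ := h
    refine Or.inl ⟨ZMod 2, inferInstance, inferInstance, ZMod.card 2, ?_⟩
    exact ⟨(e.trans e2).trans
      (Cfsg.Agent.Helper96.pslEquivGLZModTwo (F := ZMod 2) (ZMod.card 2)).symm⟩
  · obtain ⟨h3, h⟩ := h
    refine Or.inr (Or.inr (Or.inr ⟨?_, ?_⟩))
    · rw [card_pCore_equiv 3 e, h3]
    · rcases h with h | h
      · exact Or.inl (transport_three e h)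
      · exact Or.inr (transport_three e h)

end Cfsg.Agent.Helper30.Rk4
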